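import Cfsg.Agent.StdRank2.L3Asm
import Cfsg.Agent.StdRank2.L3F.Field
import Cfsg.Agent.StdRank2.L3W.WrMain

/-!
# S1778, type `L₃(q)`, `q ≥ 4` even: the core statement
-/

set_option autoImplicit false

namespace Cfsg.Agent.StdRank2.End.L3

open Cfsg.Agent.StdEven.Red

universe u

/-- **Type `L₃(q)`.** -/
theorem core (h1170 : Cfsg.Agent.StdSz.Out.S1170Stmt.{u}) : Core.{u} (fun Q _ => TypeL3 Q) :=
  L3Asm.core_of_cases h1170 L3F.Field.fieldStmt L3W.WrMain.wreath

end Cfsg.Agent.StdRank2.End.L3
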