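import Cfsg.Agent.StdRank2.End.HexAsm
import Cfsg.Agent.S1770

/-!
# S1778, type `G₂(q)`, `q ≥ 4`
-/

set_option autoImplicit false

namespace Cfsg.Agent.StdRank2.End.G2

open Cfsg.Agent.StdEven.Red

universe u

theorem core : Core.{u} (fun Q _ => TypeG2 Q) :=
  HexAsm.core_G2 fun _ _ _ _ S r => Cfsg.Agent.S1770.result S r

end Cfsg.Agent.StdRank2.End.G2
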