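import Cfsg.Agent.StdRank2.End.HexAsm
import Cfsg.Agent.TriTwo.CoreTwo
import Cfsg.Agent.S1770

/-!
# S1778, type `³D₄(q)`
-/

set_option autoImplicit false

namespace Cfsg.Agent.StdRank2.End.ThreeD4

open Cfsg.Agent.StdEven.Red

universe u

theorem core : Core.{u} (fun Q _ => Type3D4 Q) :=
  Cfsg.Agent.StdEven.Final.core_3D4
    (Cfsg.Agent.TriTwo.CoreTwo.core fun _ _ _ _ S r => (Cfsg.Agent.S1770.result S r).2)
    (HexAsm.core_3D4 fun _ _ _ _ S r => Cfsg.Agent.S1770.result S r)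

end Cfsg.Agent.StdRank2.End.ThreeD4
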