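import Cfsg.Agent.StdRank2.UFourEnd.Asm
import Cfsg.Agent.StdRank2.UFourEnd.SplitFalse
import Cfsg.Agent.StdRank2.OutSplit.UFin

/-!
# S1778, type `U₄(q)`, `q ≥ 4`: the core statement

`core` from the linear Sylow theorem S1769, to be discharged by
`fun _ _ _ _ h _ _ _ r hr hF m hm S P hS => S1769.result h r hr hF m hm S P hS`.
-/

set_option autoImplicit false

namespace Cfsg.Agent.StdRank2.End.U4

open Cfsg.Agent.StdEven.Red
open Cfsg.Agent.StdSpFour.CaseBSplit (LinSylow)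

universe u

/-- **The split case of type `U₄(q)`.** -/
theorem splitStmt : UFourEnd.Asm.SplitStmt.{u} := by
  intro F _ _ _ q hF G _ _ L A t C hZ hq _ e D MX S₁ _ hM
  obtain ⟨M, W, Di, -⟩ := UFourEnd.SplitX.exists_M D.h D.S D.h0 D.h1 hM C.cyc D.schA
  obtain ⟨Y, h1, h2⟩ := OutSplit.UEnd.exists_isSyl_U4 (by rw [Nat.card_eq_fintype_card, hF]; nlinarith) C W Di D.S
  exact UFourEnd.SplitX.false_of_card D.h D.S D.h0 D.h1 hM C D.schA h1 h2

/-- **Type `U₄(q)`.** -/
theorem core (h1769 : ∀ (L : Type u) [Group L] [Finite L] [IsSimpleGroup L], LinSylow.{u, 0} L) :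
    Core.{u} (fun Q _ => TypeU4 Q) :=
  UFourEnd.Asm.core_of splitStmt h1769

end Cfsg.Agent.StdRank2.End.U4
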