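import Cfsg.Agent.StdRank2.UFiveEnd.AsmSplit

/-!
# S1778, type `U₅(q)`, `q ≥ 4`: the core statement

`core` from the linear Sylow theorem S1769, to be discharged by
`fun _ _ _ _ h _ _ _ r hr hF m hm S P hS => S1769.result h r hr hF m hm S P hS`.
-/

set_option autoImplicit false

namespace Cfsg.Agent.StdRank2.End.U5

open Cfsg.Agent.StdEven.Red
open Cfsg.Agent.StdSpFour.CaseBSplit (LinSylow)

universe u

/-- **Type `U₅(q)`.** -/
theorem core (h1769 : ∀ (L : Type u) [Group L] [Finite L] [IsSimpleGroup L], LinSylow.{u, 0} L) :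
    Core.{u} (fun Q _ => TypeU5 Q) :=
  UFiveEnd.core_U5 h1769

end Cfsg.Agent.StdRank2.End.U5
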