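import Mathlib
import Cfsg.Prelude.Def_LieTypeChar
import Cfsg.Prelude.Def_LieChev
import Cfsg.Prelude.Def_LieTwisted
import Cfsg.Agent.StdEven.Syl

/-!
# From the Sylow 2-subgroup to the group: use of S1770

`H1770`: the statement of S1770.  `lie_G2`, `lie_3D4`: a simple group with the Sylow 2-subgroup of `G₂(2^r)`, `r ≥ 2`,
resp. `³D₄(2^r)`, `r ≥ 1`, is of Lie type in characteristic 2.
-/

set_option autoImplicit false

namespace Cfsg.Agent.StdRank2.End.HexLie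

open Cfsg Cfsg.Agent.StdEven.Syl

universe u

/-- The statement of S1770. -/
def H1770 : Prop :=
  ∀ (G : Type u) [Group G] [Finite G] [IsSimpleGroup G] (S : Sylow 2 G) (r : ℕ),
    (∀ (F : Type) [Field F] [Fintype F], 2 ≤ r → Fintype.card F = 2 ^ r →
        ∀ P : Sylow 2 ↥(Cfsg.Lie.chevG2.group F), Nonempty (↥(S : Subgroup G) ≃* ↥(P : Subgroup ↥(Cfsg.Lie.chevG2.group F))) →
          Nonempty (G ≃* ↥(Cfsg.Lie.chevG2.group F))) ∧
      (∀ (K : Type) [Field K] [Fintype K], 1 ≤ r → Fintype.card K = 8 ^ r →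
        ∀ P : Sylow 2 ↥(Cfsg.Lie.twistedD4 K (2 ^ r)), Nonempty (↥(S : Subgroup G) ≃* ↥(P : Subgroup ↥(Cfsg.Lie.twistedD4 K (2 ^ r)))) →
          Nonempty (G ≃* ↥(Cfsg.Lie.twistedD4 K (2 ^ r))))

/-- `S` is a Sylow 2-subgroup of `G₂(2^r)` -/
def SylG2 (r : ℕ) (S : Type*) [Group S] : Prop :=
  ∀ (F : Type) [Field F] [Fintype F], Fintype.card F = 2 ^ r →
    ∀ P : Sylow 2 ↥(Cfsg.Lie.chevG2.group F), Nonempty (S ≃* ↥(P : Subgroup ↥(Cfsg.Lie.chevG2.group F)))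

/-- `S` is a Sylow 2-subgroup of `³D₄(2^r)` -/
def Syl3D4 (r : ℕ) (S : Type*) [Group S] : Prop :=
  ∀ (K : Type) [Field K] [Fintype K], Fintype.card K = 8 ^ r →
    ∀ P : Sylow 2 ↥(Cfsg.Lie.twistedD4 K (2 ^ r)), Nonempty (S ≃* ↥(P : Subgroup ↥(Cfsg.Lie.twistedD4 K (2 ^ r))))

theorem SylG2.congr {r : ℕ} {S S' : Type*} [Group S] [Group S'] (e : S' ≃* S) (h : SylG2 r S) : SylG2 r S' :=
  fun F _ _ hF P => (h F hF P).map e.trans

theorem Syl3D4.congr {r : ℕ} {S S' : Type*} [Group S] [Group S'] (e : S' ≃* S) (h : Syl3D4 r S) : Syl3D4 r S' :=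
  fun F _ _ hF P => (h F hF P).map e.trans

variable {G : Type u} [Group G] [Finite G] {S L : Subgroup G}

theorem equiv_toSylow (hS : IsSyl S L) : Nonempty (↥(hS.toSylow : Subgroup L) ≃* S) := by
  rw [hS.coe_toSylow]
  exact ⟨Subgroup.subgroupOfEquivOfLe hS.le⟩

/-- **Type `G₂`.** -/
theorem lie_G2 (h : H1770.{u}) (hs : IsSimpleGroup ↥L) (hS : IsSyl S L) {r : ℕ} (hr : 2 ≤ r) (e : SylG2 r ↥S) :
    IsLieTypeChar 2 ↥L := by
  obtain ⟨f⟩ := equiv_toSylow hS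
  have hr0 : r ≠ 0 := by omega
  let _ : Fintype (GaloisField 2 r) := Fintype.ofFinite _
  have hc : Fintype.card (GaloisField 2 r) = 2 ^ r := by
    rw [← Nat.card_eq_fintype_card]
    exact GaloisField.card 2 r hr0
  obtain ⟨P⟩ : Nonempty (Sylow 2 ↥(Cfsg.Lie.chevG2.group (GaloisField 2 r))) := inferInstance
  obtain ⟨k⟩ := (h ↥L hS.toSylow r).1 (GaloisField 2 r) hr hc P ((e _ hc P).map f.trans)
  have h4 : 2 ^ 2 ≤ 2 ^ r := Nat.pow_le_pow_right (by norm_num) hr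
  refine Or.inr (Or.inr (Or.inr (Or.inr (Or.inr (Or.inr (Or.inl
    ⟨GaloisField 2 r, inferInstance, inferInstance, inferInstance, Or.inl ⟨?_, ⟨k⟩⟩⟩))))))
  rw [hc]
  omega

/-- **Type `³D₄`.** -/
theorem lie_3D4 (h : H1770.{u}) (hs : IsSimpleGroup ↥L) (hS : IsSyl S L) {r : ℕ} (hr : 1 ≤ r) (e : Syl3D4 r ↥S) :
    IsLieTypeChar 2 ↥L := by
  obtain ⟨f⟩ := equiv_toSylow hS
  have hr0 : 3 * r ≠ 0 := by omega
  let _ : Fintype (GaloisField 2 (3 * r)) := Fintype.ofFinite _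
  have hc : Fintype.card (GaloisField 2 (3 * r)) = 8 ^ r := by
    rw [← Nat.card_eq_fintype_card, GaloisField.card 2 (3 * r) hr0, pow_mul]
    norm_num
  obtain ⟨P⟩ : Nonempty (Sylow 2 ↥(Cfsg.Lie.twistedD4 (GaloisField 2 (3 * r)) (2 ^ r))) := inferInstance
  obtain ⟨k⟩ := (h ↥L hS.toSylow r).2 (GaloisField 2 (3 * r)) hr hc P ((e _ hc P).map f.trans)
  refine Or.inr (Or.inr (Or.inr (Or.inr (Or.inr (Or.inr (Or.inr (Or.inl
    ⟨GaloisField 2 (3 * r), inferInstance, inferInstance, inferInstance, 2 ^ r, ?_, Or.inr ⟨?_, ⟨k⟩⟩⟩)))))))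
  · exact (Nat.prime_two.isPrimePow).pow (by omega)
  · rw [hc, ← pow_mul, mul_comm r 3, pow_mul]
    norm_num

end Cfsg.Agent.StdRank2.End.HexLie
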