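import Mathlib
import Cfsg.Agent.StdEven.Red
import Cfsg.Agent.StdEven.Final
import Cfsg.Agent.StdRank2.End.HexLie
import Cfsg.Agent.HexStart.Exists
import Cfsg.Agent.HexRing.FieldFin
import Cfsg.Agent.HexToX.Alt
import Cfsg.Agent.HexToX.SplitEnd
import Cfsg.Agent.HexModel.Main
import Cfsg.Agent.TriTwo.Bridge
import Cfsg.Agent.StdL2.Frame

/-!
# S1778, types `G₂(q)`, `³D₄(q)`, `q ≥ 4`: assembly

`core_G2`, `core_3D4`: the core statements, from the statement `H1770` of S1770.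
-/

set_option autoImplicit false
set_option linter.unusedSectionVars false

namespace Cfsg.Agent.StdRank2.End.HexAsm

open Cfsg Subgroup Cfsg.Agent.StdRank2.Hex Cfsg.Agent.SplitTwo Cfsg.Agent.StdEven.Syl
open Cfsg.Agent.StdEven.CoreQuot Cfsg.Agent.StdEven.Loc Cfsg.Agent.StdL2.Setup Cfsg.Agent.StdEven.Red
open Cfsg.Agent.StdRank2.Hex.HexTwo
open Cfsg.Agent.HexGrow.Defs (Grown)
open Cfsg.Agent.HexGrow.OfHexTwo (XX)
open Cfsg.Agent.HexToX Cfsg.Agent.HexEight.ToPos Cfsg.Agent.StdRank2.End.HexLie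

universe u

section

variable {E : Type} [Field E] [Finite E] {σ : E ≃+* E} {G : Type u} [Group G] [Finite G] {x : ZMod 12 → E → G}

/-- **The common part.** -/
theorem asm (h : HexTwo σ x) {ω : E}
    (hω : σ ω = ω) (h0 : ω ≠ 0) (h1 : ω ≠ 1) {L : Subgroup G} {t : G} (C : Conf L (AA σ x) t) :
    ∃ S : Subgroup G, IsSyl S L ∧ t ∉ L ∧ (∀ {a : ℕ}, (∀ s, σ s = s) → Nat.card E = 2 ^ a → SylG2 (2 * a) S) ∧
      (∀ {a : ℕ}, (∀ s, σ s = s ^ 2 ^ a) → Nat.card E = 8 ^ a → Syl3D4 (2 * a) S) := by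
  obtain ⟨x', T, h', -, C', H, hTA, had, -, g, -, -, hg, z, hz, hz1, -, hgt, -⟩ := HexStart.exists_start h C hω h0 h1
  -- the pair `(FF σ, σ)`
  have hφ := HexEight.ToPos.pair σ h'.two h'.cube
  have hUT : HexGrow.Defs.UU (XX σ x') 1 ≤ T := by
    rw [HexGrow.OfHexTwo.UU_eq]
    exact (le_of_eq hTA.symm).trans inf_le_left
  have hp : ∀ f ∈ T, ∃ u ∈ HexGrow.Defs.UU (XX σ x') 1, ∃ ρ : E ≃+* E, WreathFusion.HexPure.Pure σ x' (u * f) ρ := by
    intro f hf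
    obtain ⟨u, hu, ρ, -, hρ⟩ := had f hf
    exact ⟨u, by rw [HexGrow.OfHexTwo.UU_eq]; exact hu, ρ, hρ⟩
  have hδ : (∃ l : FF σ, l ^ 2 ≠ l) ∨ ∃ a, phi σ a ≠ a := by
    left
    refine ⟨⟨ω, hω⟩, fun e => h1 ?_⟩
    have e' : ω ^ 2 = ω := congrArg Subtype.val e
    rw [pow_two] at e'
    exact mul_left_cancel₀ h0 (by rw [e', mul_one])
  obtain ⟨V, W, gr, hs | ⟨⟨gr', z', Lb, β, c, hQ, hno⟩, S, hS, htL, -, -, ⟨e⟩, -⟩⟩ :=
    alt (φ := phi σ) hφ C' h' H hω h0 h1 hδ hUT hp hg hgt hz hz1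
  · obtain ⟨y1, y2, hs⟩ := hs
    exact (split_false C' h' H hω h0 h1 W hs).elim
  · refine ⟨S, hS, htL, ?_, ?_⟩
    · intro a hs hc
      refine SylG2.congr e fun F _ _ hF P => HexRing.FieldFin.field_g2 hQ hno hs F ?_ P
      rw [hF, hc, ← pow_mul, mul_comm]
    · intro a hs hc
      refine Syl3D4.congr e fun K _ _ hK P => ?_
      have h2 : (2 : ℕ) ^ (2 * a) = (2 ^ a) ^ 2 := by rw [← pow_mul, mul_comm]
      have hq : Nat.card E = (2 ^ a) ^ 3 := by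
        rw [hc, ← pow_mul, mul_comm, pow_mul]
        norm_num
      have hK' : Fintype.card K = ((2 ^ a) ^ 2) ^ 3 := by
        rw [hK, ← h2, ← pow_mul, mul_comm (2 * a) 3, pow_mul 2 3 (2 * a)]
        norm_num
      revert P
      rw [h2]
      exact fun P => HexRing.FieldFin.field_d4 hQ hno hq hs K hK' P

end

/-- **Type `G₂(q)`, `q ≥ 4`.** -/
theorem core_G2 (h1770 : H1770.{u}) :
    Core.{u} (fun Q _ => TypeG2 Q) := by
  intro G _ _ L A t C hZ hQ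
  obtain ⟨F, i1, i2, a, ha, hc, ⟨e⟩⟩ := hQ
  obtain ⟨x, hx, rfl⟩ := HexModel.Main.of_G2 A hc hZ C.std.1.1.commutator_eq_top e
  obtain ⟨ω, h0, h1⟩ : ∃ ω : F, ω ≠ 0 ∧ ω ≠ 1 := by
    by_contra hcon
    push Not at hcon
    have h2 : Fintype.card F ≤ 2 := by
      classical
      have h3 : (Finset.univ : Finset F) ⊆ {0, 1} := fun w _ => by
        by_cases hw : w = 0
        · simp [hw]
        · simp [hcon w hw]
      calc Fintype.card F = (Finset.univ : Finset F).card := rfl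
        _ ≤ ({0, 1} : Finset F).card := Finset.card_le_card h3
        _ ≤ 2 := Finset.card_le_two
    have h4 : 2 ^ 2 ≤ 2 ^ a := Nat.pow_le_pow_right (by norm_num) ha
    omega
  obtain ⟨S, hS, htL, f1, -⟩ := asm hx (ω := ω) rfl h0 h1 C
  refine ⟨Or.inl (lie_G2 h1770 C.simple hS (r := 2 * a) (by omega) (f1 (fun _ => rfl) ?_)), htL⟩
  rw [Nat.card_eq_fintype_card, hc]

/-- **Type `³D₄(q)`, `q ≥ 4`.** -/
theorem core_3D4 (h1770 : H1770.{u}) :
    Core.{u} (fun Q _ => ∃ (K : Type) (_ : Field K) (_ : Fintype K) (a : ℕ), 2 ≤ a ∧ Fintype.card K = 8 ^ a ∧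
      Nonempty (Q ≃* ↥(Cfsg.Lie.twistedD4 K (2 ^ a)))) := by
  intro G _ _ L A t C hZ hQ
  obtain ⟨K, i1, i2, a, ha, hc, ⟨e⟩⟩ := hQ
  obtain ⟨σ, x, hσ, -, -, hf, hx, rfl⟩ := HexModel.Main.of_D4 A (by omega) hc hZ C.std.1.1.commutator_eq_top e
  obtain ⟨ω, hω, h0, h1⟩ : ∃ ω : K, σ ω = ω ∧ ω ≠ 0 ∧ ω ≠ 1 := by
    by_contra hcon
    push Not at hcon
    have h2 : Nat.card {c : K // σ c = c} ≤ 2 := by
      classical
      let f : {c : K // σ c = c} → Bool := fun c => if c.1 = 0 then true else false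
      have hinj : Function.Injective f := by
        rintro ⟨c, hc⟩ ⟨d, hd⟩ h
        have h3 : (c = 0 ↔ d = 0) := by
          by_cases hc0 : c = 0 <;> by_cases hd0 : d = 0 <;> simp [f, hc0, hd0] at h ⊢
        apply Subtype.ext
        show c = d
        by_cases hc0 : c = 0
        · rw [hc0, h3.1 hc0]
        · rw [hcon c hc hc0, hcon d hd (fun hd0 => hc0 (h3.2 hd0))]
      have := Nat.card_le_card_of_injective f hinj
      simpa using this
    have h4 : 2 ^ 2 ≤ 2 ^ a := Nat.pow_le_pow_right (by norm_num) ha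
    omega
  obtain ⟨S, hS, htL, -, f2⟩ := asm hx hω h0 h1 C
  refine ⟨Or.inl (lie_3D4 h1770 C.simple hS (r := 2 * a) (by omega) (f2 hσ ?_)), htL⟩
  rw [Nat.card_eq_fintype_card, hc]

end Cfsg.Agent.StdRank2.End.HexAsm
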